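import Groth.Agent.SmoothDesc.Wrap
import Groth.Agent.KoszulLib.SchImm
import Groth.Agent.KoszulLib.DescentKindsSch

/-! Immersions of kind `h₁` or `quasi` which lift to a smooth scheme. -/

set_option autoImplicit false
set_option linter.style.haveILetI false
universe u

open CategoryTheory Limits AlgebraicGeometry

namespace Groth.Agent.SmoothDesc

open Groth.Agent.KoszulLib

variable {P : ∀ {R : Type u} [CommRing R] {n : ℕ}, (Fin n → R) → Prop}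
variable {X V V' : Scheme.{u}}

theorem pAt_of_regAt (hP : GoodSeq @P) (k : RegImm.Kind) (hk : k ≠ .regular)
    (hkP : ∀ (R : Type u) [CommRing R] (rs : List R), k.Seq R rs ↔ P rs.get)
    (i : X ⟶ V) (U : V.affineOpens) (hc : IsClosedImmersion (i ∣_ U.1)) (z : X) (hz : i z ∈ U.1)
    (h : RegImm.IsRegularImmersionAt k i z) :
    PAt @P (RingHom.ker (i.app U.1).hom) (U.2.primeIdealOf ⟨i z, hz⟩).asIdeal := by
  obtain ⟨W, hzW, hcW, rs, hrs, hker⟩ := h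
  obtain ⟨a, b, hab, hza⟩ := exists_basicOpen_le_affine_inter U.2 W.2 (i z) ⟨hz, hzW⟩
  obtain ⟨D, hD⟩ : ∃ D : V.affineOpens, D.1 = V.basicOpen a := ⟨V.affineBasicOpen a, rfl⟩
  have hDU : D.1 ≤ U.1 := hD.le.trans (V.basicOpen_le a)
  have hDW : D.1 ≤ W.1 := (hD.trans hab).le.trans (V.basicOpen_le b)
  obtain ⟨-, hkU⟩ := ker_app_of_le _ U hc D hDU
  obtain ⟨-, hkW⟩ := ker_app_of_le _ W hcW D hDW
  letI : Algebra Γ(V, U.1) Γ(V, D.1) := (V.presheaf.map (homOfLE hDU).op).hom.toAlgebra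
  haveI : IsLocalization.Away a Γ(V, D.1) := U.2.isLocalization_of_eq_basicOpen a (homOfLE hDU) hD
  letI : Algebra Γ(V, W.1) Γ(V, D.1) := (V.presheaf.map (homOfLE hDW).op).hom.toAlgebra
  haveI : IsLocalization.Away b Γ(V, D.1) := W.2.isLocalization_of_eq_basicOpen b (homOfLE hDW) (hD.trans hab)
  haveI : Module.Flat Γ(V, W.1) Γ(V, D.1) := IsLocalization.flat _ (Submonoid.powers b)
  have hga : a ∉ (U.2.primeIdealOf ⟨i z, hz⟩).asIdeal := by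
    have h1 := hza
    rw [show i z = U.2.fromSpec (U.2.primeIdealOf ⟨_, hz⟩) from (U.2.fromSpec_primeIdealOf ⟨_, hz⟩).symm] at h1
    have h2 : U.2.primeIdealOf ⟨_, hz⟩ ∈ U.2.fromSpec ⁻¹ᵁ V.basicOpen a := h1
    rw [U.2.fromSpec_preimage_basicOpen] at h2
    exact h2
  refine pAt_of_away hP hga Γ(V, D.1) (f := (rs.map (algebraMap Γ(V, W.1) Γ(V, D.1))).get)
    ((hkP _ _).mp (seq_flat k (fun h => absurd h hk) hrs)) ?_
  refine hkU.symm.trans (hkW.trans ?_)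
  rw [hker, Ideal.ofList]
  refine (Ideal.map_span _ _).trans (congrArg _ ?_)
  ext y
  simp [List.mem_iff_get]
  exact ⟨fun ⟨j, hj⟩ => ⟨⟨j.1, by simpa using j.2⟩, hj⟩, fun ⟨j, hj⟩ => ⟨⟨j.1, by simpa using j.2⟩, hj⟩⟩

theorem regAt_of_pAt (hP : GoodSeq @P) (k : RegImm.Kind)
    (hkP : ∀ (R : Type u) [CommRing R] (rs : List R), k.Seq R rs ↔ P rs.get)
    (i : X ⟶ V) (U : V.affineOpens) (hc : IsClosedImmersion (i ∣_ U.1)) (z : X) (hz : i z ∈ U.1)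
    (h : PAt @P (RingHom.ker (i.app U.1).hom) (U.2.primeIdealOf ⟨i z, hz⟩).asIdeal) :
    RegImm.IsRegularImmersionAt k i z := by
  obtain ⟨a, ha, n, f, -, hspan, hf⟩ := h
  have hza : i z ∈ V.basicOpen a := by
    rw [show i z = U.2.fromSpec (U.2.primeIdealOf ⟨i z, hz⟩) from (U.2.fromSpec_primeIdealOf ⟨i z, hz⟩).symm]
    show U.2.primeIdealOf ⟨i z, hz⟩ ∈ U.2.fromSpec ⁻¹ᵁ V.basicOpen a
    rw [U.2.fromSpec_preimage_basicOpen]
    exact ha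
  obtain ⟨hcg, hkg⟩ := ker_app_of_le i U hc (V.affineBasicOpen a) (V.basicOpen_le a)
  letI : Algebra Γ(V, U.1) Γ(V, V.basicOpen a) := (V.presheaf.map (homOfLE (V.basicOpen_le a)).op).hom.toAlgebra
  haveI : IsLocalization.Away a Γ(V, V.basicOpen a) := U.2.isLocalization_basicOpen a
  haveI : Module.Flat Γ(V, U.1) Γ(V, V.basicOpen a) := IsLocalization.flat _ (Submonoid.powers a)
  obtain ⟨h1, h2⟩ := pExtend hP (Localization.Away a) a Γ(V, V.basicOpen a) (IsLocalization.Away.algebraMap_isUnit a)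
    f _ hspan hf
  refine ⟨V.affineBasicOpen a, hza, hcg, List.ofFn (algebraMap Γ(V, U.1) Γ(V, V.basicOpen a) ∘ f), (hkP _ _).mpr ?_, ?_⟩
  · have key : ∀ (m : ℕ) (e : m = n) (v : Fin m → Γ(V, V.basicOpen a)),
        (∀ j, v j = algebraMap Γ(V, U.1) Γ(V, V.basicOpen a) (f (Fin.cast e j))) → P v := by
      rintro m rfl v hv
      rwa [show v = algebraMap Γ(V, U.1) Γ(V, V.basicOpen a) ∘ f from funext hv]
    exact key _ (List.length_ofFn) _ fun j => by simp; rfl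
  · refine hkg.trans (h1.trans ?_)
    rw [Ideal.ofList]
    congr 1
    ext x
    simp [List.mem_ofFn]
    exact Iff.rfl

/-- An immersion is regular of kind `k` where a lift along a smooth morphism is. -/
theorem isRegularImmersionAt_of_smooth (hP : GoodSeq @P) (k : RegImm.Kind) (hk : k ≠ .regular)
    (hkP : ∀ (R : Type u) [CommRing R] (rs : List R), k.Seq R rs ↔ P rs.get)
    (htail : ∀ {R R' : Type u} [CommRing R] [CommRing R'] (π : R →+* R'), Function.Surjective π →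
      ∀ {n m : ℕ} (y : Fin n → R) (a : Fin m → R), RingHom.ker π = Ideal.span (Set.range y) →
        P (Fin.append y a) → P (⇑π ∘ a))
    (i : X ⟶ V) [IsImmersion i] (j : X ⟶ V') [IsImmersion j] (p : V' ⟶ V)
    [Smooth p] (h : j ≫ p = i) (z : X) (hj : RegImm.IsRegularImmersionAt k j z) :
    RegImm.IsRegularImmersionAt k i z := by
  subst h
  obtain ⟨U, hzU, hcU⟩ := exists_closed_nhd (j ≫ p) z
  obtain ⟨Ua, hza, hca⟩ := exists_closed_nhd j z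
  obtain ⟨w, hw, hzw⟩ := Ua.2.exists_basicOpen_le (V := p ⁻¹ᵁ U.1) ⟨j z, hzU⟩ hza
  let U₀ : V'.affineOpens := V'.affineBasicOpen w
  have hc₀ := (ker_app_of_le j Ua hca U₀ (V'.basicOpen_le w)).1
  have hW := isAffineOpen_preimage (j ≫ p) hcU
  obtain ⟨s, hs, hzs⟩ := hW.exists_basicOpen_le (V := j ⁻¹ᵁ U₀.1) ⟨z, hzw⟩ hzU
  obtain ⟨t, rfl⟩ := app_surjective (j ≫ p) hcU s
  let U₁ : V.affineOpens := V.affineBasicOpen t
  let t' : Γ(V', U₀.1) := p.appLE U.1 U₀.1 hw t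
  let U₁' : V'.affineOpens := V'.affineBasicOpen t'
  have hU₁' : U₁'.1 = U₀.1 ⊓ p ⁻¹ᵁ U₁.1 := Scheme.basicOpen_appLE p U₀.1 U.1 hw t
  have e₁ : U₁'.1 ≤ p ⁻¹ᵁ U₁.1 := hU₁'.le.trans inf_le_right
  have hcU₁ := (ker_app_of_le (j ≫ p) U hcU U₁ (V.basicOpen_le t)).1
  have hcU₁' := (ker_app_of_le j U₀ hc₀ U₁' (V'.basicOpen_le t')).1
  have hzU₁ : (j ≫ p) z ∈ U₁.1 := by
    show z ∈ (j ≫ p) ⁻¹ᵁ V.basicOpen t
    rw [Scheme.preimage_basicOpen]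
    exact hzs
  have hzU₁' : j z ∈ U₁'.1 := by rw [hU₁']; exact ⟨hzw, hzU₁⟩
  refine regAt_of_pAt hP k hkP (j ≫ p) U₁ hcU₁ z hzU₁ ?_
  have hK := pAt_of_regAt hP k hk hkP j U₁' hcU₁' z hzU₁' hj
  have hOle : (j ≫ p) ⁻¹ᵁ U₁.1 ≤ j ⁻¹ᵁ U₀.1 := (Scheme.preimage_basicOpen (j ≫ p) t).le.trans hs
  have hO : j ⁻¹ᵁ U₁'.1 = (j ≫ p) ⁻¹ᵁ U₁.1 := by
    rw [hU₁']
    exact le_antisymm (fun x hx => hx.2) (fun x hx => ⟨hOle hx, hx⟩)
  let O := (j ≫ p) ⁻¹ᵁ U₁.1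
  have eO : O ≤ j ⁻¹ᵁ U₁'.1 := hO.ge
  have hfac : p.appLE U₁.1 U₁'.1 e₁ ≫ j.appLE U₁'.1 O eO = (j ≫ p).app U₁.1 := by
    rw [Scheme.Hom.appLE_comp_appLE, Scheme.Hom.app_eq_appLE]
  have hkj : RingHom.ker (j.app U₁'.1).hom = RingHom.ker (j.appLE U₁'.1 O eO).hom := by
    rw [Scheme.Hom.app_eq_appLE]
    have key : ∀ O₂ : X.Opens, O₂ = j ⁻¹ᵁ U₁'.1 → ∀ h₂,
        RingHom.ker (j.appLE U₁'.1 O₂ h₂).hom = RingHom.ker (j.appLE U₁'.1 (j ⁻¹ᵁ U₁'.1) le_rfl).hom := by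
      rintro _ rfl h₂; rfl
    exact (key O hO.symm eO).symm
  have hsurj : Function.Surjective ((j ≫ p).app U₁.1).hom := app_surjective (j ≫ p) hcU₁
  letI : Algebra Γ(V, U₁.1) Γ(V', U₁'.1) := (p.appLE U₁.1 U₁'.1 e₁).hom.toAlgebra
  letI : Algebra Γ(V, U₁.1) Γ(X, O) := ((j ≫ p).app U₁.1).hom.toAlgebra
  haveI : Algebra.Smooth Γ(V, U₁.1) Γ(V', U₁'.1) := HasRingHomProperty.appLE @Smooth p inferInstance U₁ U₁' e₁
  let φ : Γ(V', U₁'.1) →ₐ[Γ(V, U₁.1)] Γ(X, O) :=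
    ⟨(j.appLE U₁'.1 O eO).hom, fun a => RingHom.congr_fun (congrArg CommRingCat.Hom.hom hfac) a⟩
  let P₀ := U₁'.2.primeIdealOf ⟨j z, hzU₁'⟩
  have hPφ : RingHom.ker φ.toRingHom ≤ P₀.asIdeal := by
    intro a ha
    have hzO : z ∈ O := hzU₁
    have hOa : IsAffineOpen O := isAffineOpen_preimage (j ≫ p) hcU₁
    show a ∈ (U₁'.2.primeIdealOf ⟨j z, hzU₁'⟩).asIdeal
    rw [← comap_primeIdealOf j U₁' ⟨O, hOa⟩ eO z hzO, Ideal.mem_comap, show (j.appLE U₁'.1 O eO).hom a = 0 from ha]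
    exact zero_mem _
  have hPc : P₀.asIdeal.comap (algebraMap Γ(V, U₁.1) Γ(V', U₁'.1)) = (U₁.2.primeIdealOf ⟨(j ≫ p) z, hzU₁⟩).asIdeal :=
    comap_primeIdealOf p U₁ U₁' e₁ (j z) hzU₁'
  rw [hkj] at hK
  rw [← hPc]
  exact pAt_ker_of_smooth hP htail (A := Γ(V, U₁.1)) (P' := Γ(V', U₁'.1)) hsurj φ P₀ hPφ hK

end Groth.Agent.SmoothDesc
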