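import Mathlib

/-!
# Exchange of generators in a local ring, for sequences with relations inside their ideal
-/

set_option autoImplicit false
set_option linter.style.haveILetI false
universe u

namespace Groth.Agent.SmoothDesc

open IsLocalRing

/-- An independent family inside an ideal whose generators have relations in the ideal of a local ring extends, by elements of any generating
set, to a generating family of the same length as the regular one. -/
theorem exists_exchange {R : Type u} [CommRing R] [IsLocalRing R] {c r : ℕ} {f : Fin c → R}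
    (hrel : ∀ a : Fin c → R, ∑ i, a i * f i = 0 → ∀ i, a i ∈ Ideal.span (Set.range f)) (hI : Ideal.span (Set.range f) ≠ ⊤) (F : Fin r → R)
    (hF : ∀ i, F i ∈ Ideal.span (Set.range f))
    (hind : ∀ b : Fin r → R, ∑ i, b i * F i ∈ maximalIdeal R * Ideal.span (Set.range f) → ∀ i, b i ∈ maximalIdeal R)
    (S : Set R) (hS : S ⊆ Ideal.span (Set.range f))
    (hgen : Ideal.span (Set.range f) ≤ Ideal.span (Set.range F) ⊔ Ideal.span S) :
    ∃ (e : ℕ) (h : Fin e → R), r + e = c ∧ (∀ i, h i ∈ S) ∧
      Ideal.span (Set.range f) = Ideal.span (Set.range (Fin.append F h)) := by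
  classical
  let M := Ideal.span (Set.range f)
  let π := residue R
  have hco : ∀ x : M, ∃ a : Fin c → R, ∑ j, a j * f j = x := fun x =>
    Ideal.mem_span_range_iff_exists_fun.mp x.2
  choose a ha using hco
  let v : M → (Fin c → ResidueField R) := fun x => π ∘ a x
  have hv : ∀ (x : M) (b : Fin c → R), ∑ j, b j * f j = x → v x = π ∘ b := fun x b hb => by
    funext j
    refine sub_eq_zero.mp ?_
    show π (a x j) - π (b j) = 0
    rw [← map_sub]
    exact (residue_eq_zero_iff _).mpr (le_maximalIdeal hI
      (hrel (fun j => a x j - b j) (by simp [sub_mul, Finset.sum_sub_distrib, ha, hb]) j))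
  have hvsmul : ∀ (r : R) (x : M), v (r • x) = π r • v x := fun r x => by
    rw [hv (r • x) (fun j => r * a x j) (by simp [mul_assoc, ← Finset.mul_sum, ha])]
    funext j; simp [v]
  have hvadd : ∀ x y : M, v (x + y) = v x + v y := fun x y => by
    rw [hv (x + y) (fun j => a x j + a y j) (by simp [add_mul, Finset.sum_add_distrib, ha])]
    funext j; simp [v]
  have hv0 : v 0 = 0 := by
    rw [hv 0 0 (by simp)]
    funext j; simp
  let ι := Fin r ⊕ S
  let w : ι → M := Sum.elim (fun i => ⟨F i, hF i⟩) fun s => ⟨s, hS s.2⟩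
  have hspan : Submodule.span (ResidueField R) (Set.range (v ∘ w)) = ⊤ := by
    let W := Submodule.span (ResidueField R) (Set.range (v ∘ w))
    have key : ∀ x ∈ Ideal.span (Set.range F ∪ S), ∃ hx : x ∈ M, v ⟨x, hx⟩ ∈ W := by
      intro x hx
      induction hx using Submodule.span_induction with
      | mem x hx =>
        rcases hx with ⟨i, rfl⟩ | hx
        · exact ⟨hF i, Submodule.subset_span ⟨Sum.inl i, rfl⟩⟩
        · exact ⟨hS hx, Submodule.subset_span ⟨Sum.inr ⟨x, hx⟩, rfl⟩⟩
      | zero => exact ⟨zero_mem _, by rw [show (⟨0, zero_mem _⟩ : M) = 0 from rfl, hv0]; exact zero_mem _⟩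
      | add x y _ _ hx hy =>
        obtain ⟨hx, hx'⟩ := hx
        obtain ⟨hy, hy'⟩ := hy
        refine ⟨add_mem hx hy, ?_⟩
        rw [show (⟨x + y, add_mem hx hy⟩ : M) = ⟨x, hx⟩ + ⟨y, hy⟩ from rfl, hvadd]
        exact add_mem hx' hy'
      | smul r x _ hx =>
        obtain ⟨hx, hx'⟩ := hx
        refine ⟨Submodule.smul_mem _ r hx, ?_⟩
        rw [show (⟨r • x, Submodule.smul_mem _ r hx⟩ : M) = r • ⟨x, hx⟩ from rfl, hvsmul]
        exact Submodule.smul_mem _ _ hx'
    rw [← top_le_iff, ← Module.Basis.span_eq (Pi.basisFun (ResidueField R) (Fin c)), Submodule.span_le]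
    rintro _ ⟨j, rfl⟩
    obtain ⟨hx, hx'⟩ := key (f j) (by
      rw [Ideal.span_union]; exact hgen (Ideal.subset_span (Set.mem_range_self j)))
    rw [hv ⟨f j, hx⟩ (Pi.single j 1) (by simp [Pi.single_apply])] at hx'
    rw [SetLike.mem_coe, show Pi.basisFun (ResidueField R) (Fin c) j = π ∘ (Pi.single j 1 : Fin c → R) from by
      funext i; simp [Pi.single_apply, apply_ite π]]
    exact hx'
  have hlin : LinearIndepOn (ResidueField R) (v ∘ w) (Set.range (Sum.inl : Fin r → ι)) := by
    rw [linearIndepOn_range_iff Sum.inl_injective, Fintype.linearIndependent_iff]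
    intro g hg i
    choose b hb using fun i => residue_surjective (g i)
    rw [← hb i]
    refine (residue_eq_zero_iff _).mpr (hind b ?_ i)
    have hsum : ∀ j, ∑ i, b i * a (w (Sum.inl i)) j ∈ maximalIdeal R := fun j => by
      refine (residue_eq_zero_iff _).mp ?_
      rw [map_sum]
      have := congrFun hg j
      simpa [v, π, hb] using this
    have : ∑ i, b i * F i = ∑ j, (∑ i, b i * a (w (Sum.inl i)) j) * f j := by
      rw [Finset.sum_congr rfl fun i _ => show b i * F i = ∑ j, b i * a (w (Sum.inl i)) j * f j by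
        simp [mul_assoc, ← Finset.mul_sum, ha]; rfl, Finset.sum_comm]
      simp [Finset.sum_mul]
    rw [this]
    exact Ideal.sum_mem _ fun j _ => Ideal.mul_mem_mul (hsum j) (Ideal.subset_span (Set.mem_range_self j))
  obtain ⟨t, -, hst, htspan, htlin⟩ := exists_linearIndepOn_extension hlin (Set.subset_univ _)
  have htfin : t.Finite := by
    haveI : Finite t := htlin.linearIndependent.finite
    exact Set.toFinite t
  haveI : Finite (Sum.inr ⁻¹' t : Set S) := (htfin.preimage Sum.inr_injective.injOn).to_subtype
  let e := Nat.card (Sum.inr ⁻¹' t : Set S)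
  let en : Fin e ≃ (Sum.inr ⁻¹' t : Set S) := (Finite.equivFin _).symm
  let h : Fin e → R := fun i => ((en i : S) : R)
  let T : Fin (r + e) → ι := Fin.append Sum.inl fun i => Sum.inr (en i : S)
  have hTrange : Set.range T = t := by
    refine Set.Subset.antisymm ?_ ?_
    · rintro _ ⟨i, rfl⟩
      induction i using Fin.addCases with
      | left i => simp only [T, Fin.append_left]; exact hst ⟨i, rfl⟩
      | right i => simp only [T, Fin.append_right]; exact (en i).2
    · rintro (i | s) hs
      · exact ⟨Fin.castAdd e i, by simp [T]⟩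
      · obtain ⟨i, hi⟩ := en.surjective ⟨s, hs⟩
        exact ⟨Fin.natAdd r i, by simp [T, hi]⟩
  have hTinj : Function.Injective T := by
    intro i j hij
    induction i using Fin.addCases <;> induction j using Fin.addCases <;>
      simp [T, ι] at hij ⊢
    all_goals first
      | exact hij
      | exact Sum.inl_injective hij
      | exact en.injective (Subtype.ext hij)
      | exact Subtype.ext hij
  have hTlin : LinearIndependent (ResidueField R) (v ∘ w ∘ T) := by
    rw [← hTrange, linearIndepOn_range_iff hTinj] at htlin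
    exact htlin
  have hTspan : ⊤ ≤ Submodule.span (ResidueField R) (Set.range (v ∘ w ∘ T)) := by
    rw [← hspan, show Set.range (v ∘ w ∘ T) = (v ∘ w) '' t from by rw [← hTrange, ← Set.range_comp]; rfl,
      Submodule.span_le]
    rintro _ ⟨x, rfl⟩
    exact htspan ⟨x, trivial, rfl⟩
  have hcard : r + e = c := by
    have := Module.finrank_eq_card_basis (Module.Basis.mk hTlin hTspan)
    simpa using this.symm
  have hwT : ∀ i, ((w (T i) : M) : R) = Fin.append F h i := fun i => by
    induction i using Fin.addCases <;> simp [T, w, h]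
  refine ⟨e, h, hcard, fun i => (en i : S).2, le_antisymm ?_ (Ideal.span_le.mpr ?_)⟩
  · refine Submodule.le_of_le_smul_of_le_jacobson_bot (Submodule.fg_span (Set.finite_range f))
      (maximalIdeal_le_jacobson ⊥) ?_
    refine Ideal.span_le.mpr ?_
    rintro _ ⟨j, rfl⟩
    obtain ⟨l, hl⟩ := (Submodule.mem_span_range_iff_exists_fun _).mp
      (hTspan (Submodule.mem_top : (Pi.single j 1 : Fin c → ResidueField R) ∈ ⊤))
    choose b hb using fun i => residue_surjective (l i)
    rw [SetLike.mem_coe, Submodule.mem_sup]
    refine ⟨∑ i, b i * Fin.append F h i, Ideal.sum_mem _ fun i _ =>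
      Ideal.mul_mem_left _ _ (Ideal.subset_span (Set.mem_range_self i)), f j - ∑ i, b i * Fin.append F h i, ?_, by abel⟩
    have hco : f j - ∑ i, b i * Fin.append F h i = ∑ k, ((Pi.single j 1 : Fin c → R) k - ∑ i, b i * a (w (T i)) k) * f k := by
      simp only [sub_mul, Finset.sum_sub_distrib, Pi.single_apply, ite_mul, one_mul, zero_mul, Finset.sum_ite_eq',
        Finset.mem_univ, if_true, sub_right_inj]
      rw [Finset.sum_congr rfl fun i _ => show b i * Fin.append F h i = ∑ k, b i * a (w (T i)) k * f k by
        simp [mul_assoc, ← Finset.mul_sum, ha, hwT], Finset.sum_comm]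
      simp [Finset.sum_mul]
    rw [hco, smul_eq_mul]
    refine Ideal.sum_mem _ fun k _ => Ideal.mul_mem_mul ((residue_eq_zero_iff _).mp ?_)
      (Ideal.subset_span (Set.mem_range_self k))
    have := congrFun hl k
    simp only [Finset.sum_apply, Pi.smul_apply, Function.comp_apply, smul_eq_mul] at this
    rw [map_sub, map_sum, sub_eq_zero]
    simp [v, π] at this
    simp [hb, this, Pi.single_apply, apply_ite (residue R)]
  · rintro _ ⟨i, rfl⟩
    exact hwT i ▸ (w (T i)).2

end Groth.Agent.SmoothDesc
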