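import Groth.Agent.KoszulLib.SeqProps
import Groth.Agent.AdicLim.Noetherian
import Mathlib

/-!
# Leaving out the first members of an H1-regular or quasi-regular sequence
-/

set_option autoImplicit false
set_option linter.style.haveILetI false
universe u

open MvPolynomial

namespace Groth.Agent.SmoothDesc

open Groth.Agent.KoszulLib

variable {R R' : Type u} [CommRing R] [CommRing R'] (π : R →+* R') (hπ : Function.Surjective π)
  {n m : ℕ} (y : Fin n → R) (a : Fin m → R) (hker : RingHom.ker π = Ideal.span (Set.range y))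

include hπ hker

/-- The tail of an H1-regular sequence is H1-regular modulo the head. -/
theorem h1_tail (h : CAlgX.IsH1Regular (Fin.append y a)) : CAlgX.IsH1Regular (⇑π ∘ a) := by
  intro b hb
  choose b' hb' using fun j => hπ (b j)
  have hk : ∑ j, b' j * a j ∈ RingHom.ker π := by
    rw [RingHom.mem_ker, map_sum]
    simpa [hb'] using hb
  rw [hker] at hk
  obtain ⟨c, hc⟩ := Ideal.mem_span_range_iff_exists_fun.mp hk
  have h1 := h (Fin.append (-c) b') (by
    rw [Fin.sum_univ_add]
    simp [hc])
  let Φ : (Fin (n + m) → R) → (Fin m → R') := fun v j => π (v (Fin.natAdd n j))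
  have hΦ : ∀ v ∈ trivRel (Fin.append y a), Φ v ∈ trivRel (⇑π ∘ a) := by
    intro v hv
    induction hv using Submodule.span_induction with
    | mem v hv =>
      obtain ⟨i, j, rfl⟩ := hv
      have hy : ∀ l, π (y l) = 0 := fun l =>
        RingHom.mem_ker.mp (hker ▸ Ideal.subset_span ⟨l, rfl⟩)
      induction i using Fin.addCases with
      | left i =>
        induction j using Fin.addCases with
        | left j =>
          convert (trivRel (⇑π ∘ a)).zero_mem using 1
          funext l
          simp [Φ, Pi.single_apply, Fin.ext_iff, (show n + (l : ℕ) ≠ i from by omega),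
            (show n + (l : ℕ) ≠ j from by omega)]
        | right j =>
          convert (trivRel (⇑π ∘ a)).zero_mem using 1
          funext l
          simp [Φ, Pi.single_apply, Fin.ext_iff, (show n + (l : ℕ) ≠ i from by omega), apply_ite π, hy]
      | right i =>
        induction j using Fin.addCases with
        | left j =>
          convert (trivRel (⇑π ∘ a)).zero_mem using 1
          funext l
          simp [Φ, Pi.single_apply, Fin.ext_iff, (show n + (l : ℕ) ≠ j from by omega), apply_ite π, hy]
        | right j =>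
          convert trivRel_gen (⇑π ∘ a) i j using 1
          funext l
          simp [Φ, Pi.single_apply, apply_ite π]
    | zero =>
      convert (trivRel (⇑π ∘ a)).zero_mem using 1
      funext l; simp [Φ]
    | add v w _ _ hv hw =>
      convert add_mem hv hw using 1
      funext l; simp [Φ]
    | smul r v _ hv =>
      convert Submodule.smul_mem _ (π r) hv using 1
      funext l; simp [Φ]
  have h2 := hΦ _ h1
  have he : Φ (Fin.append (-c) b') = b := by
    funext j
    simp [Φ, hb']
  rw [he] at h2
  exact h2

/-- The tail of a quasi-regular sequence is quasi-regular modulo the head. -/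
theorem quasi_tail (h : CAlgX.IsQuasiRegular (Fin.append y a)) : CAlgX.IsQuasiRegular (⇑π ∘ a) := by
  intro d P hP hev e
  classical
  let f := Fin.append y a
  let J := Ideal.span (Set.range f)
  let Ia := Ideal.span (Set.range a)
  let Iy := Ideal.span (Set.range y)
  have hya : Set.range y ∪ Set.range a = Set.range f := by
    ext t
    constructor
    · rintro (⟨i, rfl⟩ | ⟨i, rfl⟩)
      · exact ⟨Fin.castAdd m i, Fin.append_left y a i⟩
      · exact ⟨Fin.natAdd n i, Fin.append_right y a i⟩
    · rintro ⟨i, rfl⟩
      induction i using Fin.addCases with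
      | left i => exact Or.inl ⟨i, (Fin.append_left y a i).symm⟩
      | right i => exact Or.inr ⟨i, (Fin.append_right y a i).symm⟩
  have hJ : J = Iy ⊔ Ia := by rw [← Ideal.span_union, hya]
  have hmapI : Ia.map π = Ideal.span (Set.range (⇑π ∘ a)) := by rw [Ideal.map_span, ← Set.range_comp]
  have hπJ : J.map π ≤ Ideal.span (Set.range (⇑π ∘ a)) := by
    rw [hJ, Ideal.map_sup, hmapI]
    refine sup_le ?_ le_rfl
    rw [Ideal.map_le_iff_le_comap]
    intro t ht
    rw [Ideal.mem_comap, show π t = 0 from RingHom.mem_ker.mp (hker ▸ ht)]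
    exact zero_mem _
  -- lift the form
  choose σ hσ using hπ
  let P' : MvPolynomial (Fin m) R := ∑ q ∈ P.support, monomial q (σ (P.coeff q))
  have hP'h : P'.IsHomogeneous d := MvPolynomial.IsHomogeneous.sum _ _ _ fun q hq =>
    MvPolynomial.isHomogeneous_monomial _ (by
      have := hP (MvPolynomial.mem_support_iff.mp hq)
      rwa [Finsupp.degree_eq_weight_one])
  have hmapP : MvPolynomial.map π P' = P := by
    conv_rhs => rw [P.as_sum]
    simp [P', hσ]
  have hev' : π (eval a P') = eval (⇑π ∘ a) P := by
    conv_rhs => rw [← hmapP]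
    rw [MvPolynomial.eval_map, ← MvPolynomial.eval₂_comp]
  have hx : π (eval a P') ∈ (Ia ^ (d + 1)).map π := by rw [hev', Ideal.map_pow, hmapI]; exact hev
  obtain ⟨G, hG, hGx⟩ := (Ideal.mem_map_iff_of_surjective π (fun t => ⟨σ t, hσ t⟩)).mp hx
  let x := eval a P' - G
  have hxy : x ∈ Iy := by
    show x ∈ Ideal.span (Set.range y)
    rw [← hker, RingHom.mem_ker, map_sub, hGx, sub_self]
  have hG' : G ∈ J ^ (d + 1) := Ideal.pow_right_mono (hJ ▸ le_sup_right) _ hG
  have hform : ∀ (k : ℕ) (t : R), t ∈ Iy * J ^ k → ∃ H : MvPolynomial (Fin (n + m)) R, H.IsHomogeneous (k + 1) ∧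
      eval f H = t ∧ ∀ q : Fin (n + m) →₀ ℕ, (∀ i : Fin n, q (Fin.castAdd m i) = 0) → H.coeff q = 0 := by
    intro k t ht
    induction ht using Submodule.mul_induction_on' with
    | mem_mul_mem r hr c hc =>
      obtain ⟨C, hC, hCc⟩ := AdicLim.exists_isHomogeneous_eval (t := f) rfl k c hc
      obtain ⟨b, hb⟩ := Ideal.mem_span_range_iff_exists_fun.mp hr
      refine ⟨∑ i, MvPolynomial.C (b i) * (MvPolynomial.X (Fin.castAdd m i) * C), ?_, ?_, fun q hq => ?_⟩
      · exact MvPolynomial.IsHomogeneous.sum _ _ _ fun i _ => by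
          rw [show k + 1 = 0 + (1 + k) by omega]
          exact (MvPolynomial.isHomogeneous_C _ _).mul ((MvPolynomial.isHomogeneous_X _ _).mul hC)
      · simp [f, hCc, ← hb, Finset.sum_mul, mul_assoc]
      · rw [MvPolynomial.coeff_sum]
        refine Finset.sum_eq_zero fun i _ => ?_
        rw [MvPolynomial.coeff_C_mul, MvPolynomial.coeff_X_mul', if_neg, mul_zero]
        rw [Finsupp.notMem_support_iff]
        exact hq i
    | add r _ r' _ hr hr' =>
      obtain ⟨H, h1, h2, h3⟩ := hr
      obtain ⟨H', h1', h2', h3'⟩ := hr'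
      exact ⟨H + H', h1.add h1', by rw [map_add, h2, h2'], fun q hq => by
        rw [MvPolynomial.coeff_add, h3 q hq, h3' q hq, add_zero]⟩
  have hval : eval a P' ∈ J ^ d := Ideal.pow_right_mono (hJ ▸ le_sup_right) _ (RegIdeal.eval_mem_pow (f := a) hP'h)
  have hxk : ∀ k, k + 1 ≤ d → x ∈ Iy * J ^ k := by
    intro k
    induction k with
    | zero => intro _; rw [pow_zero, Ideal.one_eq_top, Ideal.mul_top]; exact hxy
    | succ k ih =>
      intro hk
      obtain ⟨H, hH, hHx, hH0⟩ := hform k x (ih (by omega))
      have hc := h (k + 1) H hH (by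
        rw [hHx]
        exact sub_mem (Ideal.pow_le_pow_right (by omega) hval) (Ideal.pow_le_pow_right (by omega) hG'))
      rw [← hHx, MvPolynomial.eval_eq]
      refine Ideal.sum_mem _ fun q hq => ?_
      obtain ⟨i, hi⟩ : ∃ i : Fin n, q (Fin.castAdd m i) ≠ 0 := by
        by_contra hne
        push Not at hne
        exact MvPolynomial.mem_support_iff.mp hq (hH0 q hne)
      let q' := q - Finsupp.single (Fin.castAdd m i) 1
      have hle : Finsupp.single (Fin.castAdd m i) 1 ≤ q := Finsupp.single_le_iff.mpr (Nat.one_le_iff_ne_zero.mpr hi)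
      have hqq : q' + Finsupp.single (Fin.castAdd m i) 1 = q := tsub_add_cancel_of_le hle
      have hdeg : q'.degree = k := by
        have h1 : q.degree = k + 1 := by
          have := hH (MvPolynomial.mem_support_iff.mp hq)
          rwa [Finsupp.degree_eq_weight_one]
        rw [← hqq, map_add, Finsupp.degree_single] at h1
        omega
      have hprod : ∏ l ∈ q.support, f l ^ q l = f (Fin.castAdd m i) * eval f (monomial q' (1 : R)) := by
        have h1 : ∏ l ∈ q.support, f l ^ q l = eval f (monomial q (1 : R)) := by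
          rw [MvPolynomial.eval_monomial, one_mul]; rfl
        rw [h1, ← hqq, show monomial (q' + Finsupp.single (Fin.castAdd m i) 1) (1 : R) =
          monomial q' 1 * X (Fin.castAdd m i) from by rw [MvPolynomial.X, MvPolynomial.monomial_mul, one_mul],
          map_mul, MvPolynomial.eval_X, mul_comm]
      rw [hprod, show H.coeff q * (f (Fin.castAdd m i) * eval f (monomial q' (1 : R))) =
        f (Fin.castAdd m i) * (H.coeff q * eval f (monomial q' (1 : R))) by ring]
      refine Ideal.mul_mem_mul (Ideal.subset_span ⟨i, (Fin.append_left y a i).symm⟩) ?_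
      rw [pow_succ']
      exact Ideal.mul_mem_mul (hc q) (RegIdeal.eval_mem_pow (f := f) (MvPolynomial.isHomogeneous_monomial _ hdeg))
  rcases Nat.eq_zero_or_pos d with rfl | hd
  · have hc0 : P' = MvPolynomial.C (P'.coeff 0) :=
      MvPolynomial.totalDegree_eq_zero_iff_eq_C.mp (Nat.le_zero.mp hP'h.totalDegree_le)
    have hc : P'.coeff 0 ∈ J := by
      have h1 : eval a P' = P'.coeff 0 := by
        conv_lhs => rw [hc0]
        simp
      rw [← h1, show eval a P' = x + G by simp [x]]
      rw [pow_one] at hG'
      exact add_mem (hJ ▸ Ideal.mem_sup_left hxy) hG'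
    by_cases he : e = 0
    · subst he
      rw [← hmapP, MvPolynomial.coeff_map]
      exact hπJ (Ideal.mem_map_of_mem π hc)
    · rw [← hmapP, MvPolynomial.coeff_map, hc0, MvPolynomial.coeff_C, if_neg (Ne.symm he), map_zero]
      exact zero_mem _
  obtain ⟨H, hH, hHx, hH0⟩ := hform (d - 1) x (hxk (d - 1) (by omega))
  rw [show d - 1 + 1 = d by omega] at hH
  have hc := h d (MvPolynomial.rename (Fin.natAdd n) P' - H) ((hP'h.rename_isHomogeneous).sub hH) (by
    rw [map_sub, MvPolynomial.eval_rename, show f ∘ Fin.natAdd n = a from funext fun i => Fin.append_right y a i, hHx]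
    simpa [x] using hG') (e.mapDomain (Fin.natAdd n))
  rw [MvPolynomial.coeff_sub, MvPolynomial.coeff_rename_mapDomain _ (Fin.natAdd_injective m n),
    hH0 _ (fun i => Finsupp.mapDomain_of_notMem_range _ _ fun ⟨l, hl⟩ => by
      simp [Fin.ext_iff] at hl
      omega), sub_zero] at hc
  rw [← hmapP, MvPolynomial.coeff_map]
  exact hπJ (Ideal.mem_map_of_mem π hc)

end Groth.Agent.SmoothDesc
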