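import Groth.Agent.SmoothDesc.Chart
import Groth.Agent.SmoothDesc.Exchange
import Groth.Agent.SmoothDesc.QuotSeq
import Groth.Agent.KoszulLib.DescentKinds
import Groth.Agent.KoszulLib.Change
import Mathlib.RingTheory.Spectrum.Prime.Chevalley

/-!
# Descent of ideals locally generated by good sequences from a smooth algebra
-/

set_option autoImplicit false
set_option linter.style.haveILetI false
universe u

namespace Groth.Agent.SmoothDesc

open Groth.Agent.KoszulLib

variable {P : ∀ {R : Type u} [CommRing R] {n : ℕ}, (Fin n → R) → Prop}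

/-- In an etale algebra over a polynomial ring, an ideal cutting out the base at which it is generated by a
good sequence induces an ideal of the base generated by a good sequence near the point below. -/
theorem pAt_comap (hP : GoodSeq @P)
    (htail : ∀ {R R' : Type u} [CommRing R] [CommRing R'] (π : R →+* R'), Function.Surjective π →
      ∀ {n m : ℕ} (y : Fin n → R) (a : Fin m → R), RingHom.ker π = Ideal.span (Set.range y) →
        P (Fin.append y a) → P (⇑π ∘ a))
    {A R : Type u} [CommRing A] [CommRing R] [Algebra A R] {n : ℕ}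
    [Algebra (MvPolynomial (Fin n) A) R] [IsScalarTower A (MvPolynomial (Fin n) A) R]
    [Algebra.Etale (MvPolynomial (Fin n) A) R] {I : Ideal A} {K : Ideal R} (s : A)
    (hs : IsUnit (algebraMap A R s)) (hIK : I.map (algebraMap A R) ≤ K)
    (hmod : ∀ c : R, ∃ (a : A) (k : ℕ), c * algebraMap A R s ^ k - algebraMap A R a ∈ K)
    (hI : ∀ a : A, algebraMap A R a ∈ K → ∃ k : ℕ, s ^ k * a ∈ I)
    (Q : PrimeSpectrum R) (hKQ : K ≤ Q.asIdeal) (hPK : PAt @P K Q.asIdeal) :
    PAt @P I (Q.asIdeal.comap (algebraMap A R)) := by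
  classical
  obtain ⟨y, c, hy, hyK, hgen, hind⟩ := exists_coord (n := n) s hs hIK hmod hI
  obtain ⟨g₀, hg₀, m, f, hfK, hfspan, hfP⟩ := hPK
  let L := Localization.AtPrime Q.asIdeal
  haveI : Module.Flat R L := IsLocalization.flat L Q.asIdeal.primeCompl
  obtain ⟨hspan, hPL⟩ := pExtend hP (Localization.Away g₀) g₀ L
    (IsLocalization.map_units L (⟨g₀, hg₀⟩ : Q.asIdeal.primeCompl)) f K hfspan hfP
  have hmax : IsLocalRing.maximalIdeal L = Q.asIdeal.map (algebraMap R L) :=
    (Localization.AtPrime.map_eq_maximalIdeal).symm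
  have hne : Ideal.span (Set.range (algebraMap R L ∘ f)) ≠ ⊤ := by
    rw [← hspan]
    exact ne_top_of_le_ne_top (IsLocalRing.maximalIdeal.isMaximal L).ne_top (hmax ▸ Ideal.map_mono hKQ)
  have hind' : ∀ b : Fin n → L, ∑ i, b i * (algebraMap R L ∘ y) i ∈
      IsLocalRing.maximalIdeal L * Ideal.span (Set.range (algebraMap R L ∘ f)) → ∀ i, b i ∈ IsLocalRing.maximalIdeal L := by
    intro b hb i
    rw [← hspan, hmax, ← Ideal.map_mul] at hb
    obtain ⟨d, hd⟩ := IsLocalization.exist_integer_multiples_of_finite Q.asIdeal.primeCompl b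
    choose b' hb' using hd
    have h1 : algebraMap R L (∑ i, b' i * y i) ∈ (Q.asIdeal * K).map (algebraMap R L) := by
      rw [map_sum]
      have h2 := Ideal.mul_mem_left _ (algebraMap R L d) hb
      rw [Finset.mul_sum] at h2
      convert h2 using 2 with i
      rw [map_mul, show algebraMap R L (b' i) = algebraMap R L d * b i from (hb' i).trans (Algebra.smul_def _ _),
        mul_assoc]
      rfl
    rw [IsLocalization.algebraMap_mem_map_algebraMap_iff Q.asIdeal.primeCompl] at h1
    obtain ⟨t, ht, htm⟩ := h1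
    rw [Finset.mul_sum] at htm
    have h3 := hind Q.asIdeal Q.isPrime hKQ (fun i => t * b' i) (by simpa only [mul_assoc] using htm) i
    have h4 : b' i ∈ Q.asIdeal := (Q.isPrime.mem_or_mem h3).resolve_left ht
    rw [hmax, ← Ideal.unit_mul_mem_iff_mem _ (IsLocalization.map_units L d), ← Algebra.smul_def, ← hb' i]
    exact Ideal.mem_map_of_mem _ h4
  have hgenL : Ideal.span (Set.range (algebraMap R L ∘ f)) ≤
      Ideal.span (Set.range (algebraMap R L ∘ y)) ⊔ Ideal.span (algebraMap R L '' (algebraMap A R '' I)) := by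
    refine Submodule.le_of_le_smul_of_le_jacobson_bot (Submodule.fg_span (Set.finite_range _))
      (IsLocalRing.maximalIdeal_le_jacobson ⊥) ?_
    rw [← hspan, smul_eq_mul]
    refine (Ideal.map_mono hgen).trans ?_
    rw [Ideal.map_sup, Ideal.map_sup, Ideal.map_mul, Ideal.map_span, ← Set.range_comp]
    refine sup_le (sup_le ?_ (le_sup_left.trans le_sup_left)) ?_
    · exact Ideal.map_le_iff_le_comap.mpr (Ideal.map_le_iff_le_comap.mpr fun x hx =>
        Ideal.mem_sup_left (Ideal.mem_sup_right (Ideal.subset_span ⟨_, ⟨x, hx, rfl⟩, rfl⟩)))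
    · exact (Ideal.mul_mono_left (hmax ▸ Ideal.map_mono hKQ)).trans le_sup_right
  obtain ⟨e, h', hec, hh', heq⟩ := exists_exchange (hP.rel hPL) hne (algebraMap R L ∘ y)
    (fun i => hspan ▸ Ideal.mem_map_of_mem _ (hyK i)) hind' (algebraMap R L '' (algebraMap A R '' I))
    (by
      rintro _ ⟨_, ⟨x, hx, rfl⟩, rfl⟩
      exact hspan ▸ Ideal.mem_map_of_mem _ (hIK (Ideal.mem_map_of_mem _ hx)))
    hgenL
  have hh'' : ∀ i, ∃ x ∈ I, algebraMap R L (algebraMap A R x) = h' i := fun i => by
    obtain ⟨_, ⟨x, hx, rfl⟩, hxe⟩ := hh' i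
    exact ⟨x, hx, hxe⟩
  choose h hhI hhe using hh''
  subst hec
  let G : Fin (n + e) → R := Fin.append y (algebraMap A R ∘ h)
  have hGK : ∀ i, G i ∈ K := fun i => by
    induction i using Fin.addCases with
    | left i => simpa [G] using hyK i
    | right i => simpa [G] using hIK (Ideal.mem_map_of_mem _ (hhI i))
  have hle : (Ideal.span (Set.range f)).map (algebraMap R L) ≤ (Ideal.span (Set.range G)).map (algebraMap R L) := by
    rw [Ideal.map_span, Ideal.map_span, ← Set.range_comp, ← Set.range_comp, heq]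
    refine le_of_eq (congrArg _ (congrArg _ (funext fun i => ?_)))
    induction i using Fin.addCases <;> simp [G, hhe]
  obtain ⟨b, hb, hbm⟩ := exists_mul_mem_of_map_le (Submodule.fg_span (Set.finite_range f)) Q.asIdeal L hle
  let g := g₀ * b
  have hgQ : g ∉ Q.asIdeal := fun hm => (Q.isPrime.mem_or_mem hm).elim hg₀ hb
  let R' := Localization.Away g
  haveI : Module.Flat R R' := IsLocalization.flat R' (Submonoid.powers g)
  have hgu : IsUnit (algebraMap R R' g) := IsLocalization.Away.algebraMap_isUnit g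
  have hu : IsUnit (algebraMap R R' g₀) ∧ IsUnit (algebraMap R R' b) := by
    have hgu2 : IsUnit (algebraMap R R' g₀ * algebraMap R R' b) := by rw [← map_mul]; exact hgu
    exact ⟨isUnit_of_mul_isUnit_left hgu2, isUnit_of_mul_isUnit_right hgu2⟩
  obtain ⟨hspan', hP'⟩ := pExtend hP (Localization.Away g₀) g₀ R' hu.1 f K hfspan hfP
  have heq' : Ideal.span (Set.range (algebraMap R R' ∘ G)) = Ideal.span (Set.range (algebraMap R R' ∘ f)) := by
    refine le_antisymm ?_ ?_
    · rw [← hspan', Ideal.span_le]
      rintro _ ⟨i, rfl⟩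
      exact Ideal.mem_map_of_mem _ (hGK i)
    · rw [Ideal.span_le]
      rintro _ ⟨i, rfl⟩
      have h2 := Ideal.mem_map_of_mem (algebraMap R R') (hbm (f i) (Ideal.subset_span ⟨i, rfl⟩))
      rw [map_mul, Ideal.unit_mul_mem_iff_mem _ hu.2, Ideal.map_span, ← Set.range_comp] at h2
      exact h2
  have hPG := hP.change hP' heq'
  obtain ⟨C, _, _, π, hflat, hfp, hπ, hker⟩ := exists_flat_quotient (n := n) s hs c y hy
  let C' := Localization.Away (π g)
  have hM : (Submonoid.powers g).map π.toRingHom = Submonoid.powers (π g) := Submonoid.map_powers π.toRingHom g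
  let π' : R' →+* C' := IsLocalization.map C' π.toRingHom (M := Submonoid.powers g) (T := Submonoid.powers (π g))
    (hM ▸ Submonoid.le_comap_map _)
  have hπ'c : ∀ x, π' (algebraMap R R' x) = algebraMap C C' (π x) := fun x => IsLocalization.map_eq _ x
  have hπ'h : ∀ x, π' (algebraMap R R' (algebraMap A R x)) = algebraMap A C' x := fun x => by
    rw [hπ'c, π.commutes, ← IsScalarTower.algebraMap_apply]
  have hπ' : Function.Surjective π' := fun z => by
    obtain ⟨⟨a, ⟨_, l, rfl⟩⟩, he⟩ := IsLocalization.surj (Submonoid.powers (π g)) z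
    obtain ⟨a, rfl⟩ := hπ a
    refine ⟨IsLocalization.mk' R' a (⟨g ^ l, l, rfl⟩ : Submonoid.powers g), ?_⟩
    rw [IsLocalization.map_mk', IsLocalization.mk'_eq_iff_eq_mul]
    simpa using he.symm
  have hker' : RingHom.ker π' = Ideal.span (Set.range (algebraMap R R' ∘ y)) := by
    rw [IsLocalization.ker_map (S := R') C' π.toRingHom hM, hker, Ideal.map_span, ← Set.range_comp]
  have happ : algebraMap R R' ∘ G = Fin.append (algebraMap R R' ∘ y) (algebraMap R R' ∘ (algebraMap A R ∘ h)) := by
    funext i
    induction i using Fin.addCases <;> simp [G]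
  have hPC : P (algebraMap A C' ∘ h) := by
    have := htail π' hπ' (algebraMap R R' ∘ y) (algebraMap R R' ∘ (algebraMap A R ∘ h)) hker' (happ ▸ hPG)
    rwa [show ⇑π' ∘ (algebraMap R R' ∘ (algebraMap A R ∘ h)) = algebraMap A C' ∘ h from
      funext fun i => hπ'h (h i)] at this
  have hIC : I.map (algebraMap A C') = Ideal.span (Set.range (algebraMap A C' ∘ h)) := by
    refine le_antisymm (Ideal.map_le_iff_le_comap.mpr fun x hx => ?_) (Ideal.span_le.mpr ?_)
    · have h1 : algebraMap R R' (algebraMap A R x) ∈ K.map (algebraMap R R') :=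
        Ideal.mem_map_of_mem _ (hIK (Ideal.mem_map_of_mem _ hx))
      rw [hspan', ← heq', happ] at h1
      have h2 := Ideal.mem_map_of_mem π' h1
      rw [Ideal.map_span, hπ'h] at h2
      rw [Ideal.mem_comap]
      refine Ideal.span_le.mpr ?_ h2
      rintro _ ⟨_, ⟨i, rfl⟩, rfl⟩
      induction i using Fin.addCases with
      | left i =>
        rw [Fin.append_left, show π' ((algebraMap R R' ∘ y) i) = 0 from
          RingHom.mem_ker.mp (hker' ▸ Ideal.subset_span ⟨i, rfl⟩)]
        exact zero_mem _
      | right i =>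
        rw [Fin.append_right]
        exact Ideal.subset_span ⟨i, (hπ'h (h i)).symm⟩
    · rintro _ ⟨i, rfl⟩
      exact Ideal.mem_map_of_mem _ (hhI i)
  haveI : Module.Flat C C' := IsLocalization.flat C' (Submonoid.powers (π g))
  haveI : Module.Flat A C' := Module.Flat.trans A C C'
  haveI : Algebra.FinitePresentation C C' := IsLocalization.Away.finitePresentation (π g)
  haveI : Algebra.FinitePresentation A C' := Algebra.FinitePresentation.trans A C C'
  -- the point
  have hyQ : RingHom.ker π.toRingHom ≤ Q.asIdeal := by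
    rw [hker, Ideal.span_le]
    rintro _ ⟨i, rfl⟩
    exact hKQ (hyK i)
  let q : PrimeSpectrum C := ⟨Q.asIdeal.map π.toRingHom, Ideal.map_isPrime_of_surjective hπ hyQ⟩
  have hqQ : ∀ x, π x ∈ q.asIdeal → x ∈ Q.asIdeal := fun x hx => by
    obtain ⟨z, hz, hzx⟩ := (Ideal.mem_map_iff_of_surjective π.toRingHom hπ).mp hx
    have : x - z ∈ Q.asIdeal := hyQ (by rw [RingHom.mem_ker, map_sub, hzx]; exact sub_self _)
    simpa using add_mem this hz
  obtain ⟨q', hq'⟩ : q ∈ Set.range (PrimeSpectrum.comap (algebraMap C C')) := by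
    rw [PrimeSpectrum.localization_away_comap_range C' (π g)]
    exact fun hm => hgQ (hqQ g hm)
  have hp : PrimeSpectrum.comap (algebraMap A C') q' = PrimeSpectrum.comap (algebraMap A R) Q := by
    rw [IsScalarTower.algebraMap_eq A C C', PrimeSpectrum.comap_comp_apply, hq']
    refine PrimeSpectrum.ext (Ideal.ext fun x => ?_)
    show algebraMap A C x ∈ q.asIdeal ↔ algebraMap A R x ∈ Q.asIdeal
    rw [← π.commutes]
    exact ⟨hqQ _, fun hx => Ideal.mem_map_of_mem _ hx⟩
  have hopen := (PrimeSpectrum.isOpenMap_comap_of_hasGoingDown_of_finitePresentation (R := A) (S := C'))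
    _ isOpen_univ
  obtain ⟨_, ⟨_, ⟨a, rfl⟩, rfl⟩, hQa, hsub⟩ := PrimeSpectrum.isBasis_basic_opens.exists_subset_of_mem_open
    (Set.mem_image_of_mem (PrimeSpectrum.comap (algebraMap A C')) (Set.mem_univ q')) hopen
  rw [hp] at hQa
  refine ⟨a, hQa, e, h, hhI, ?_⟩
  let U := Localization.Away a
  let T := Localization.Away (algebraMap A C' a)
  haveI : Module.Flat C' T := IsLocalization.flat T (Submonoid.powers (algebraMap A C' a))
  haveI : Module.Flat A T := Module.Flat.trans A C' T
  have hua : IsUnit (algebraMap A T a) := by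
    rw [IsScalarTower.algebraMap_apply A C' T]
    exact IsLocalization.Away.algebraMap_isUnit _
  let ψ : U →+* T := IsLocalization.Away.lift a hua
  letI : Algebra U T := ψ.toAlgebra
  have hψ : ψ.comp (algebraMap A U) = algebraMap A T := IsLocalization.Away.lift_comp a hua
  haveI : IsScalarTower A U T := IsScalarTower.of_algebraMap_eq' hψ.symm
  haveI : Module.Flat U T := (Module.flat_iff_of_isLocalization U (Submonoid.powers a) T).mpr inferInstance
  haveI : Module.FaithfullyFlat U T := by
    refine Module.FaithfullyFlat.of_comap_surjective fun p => ?_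
    have hpa : PrimeSpectrum.comap (algebraMap A U) p ∈ (PrimeSpectrum.basicOpen a : Set (PrimeSpectrum A)) :=
      fun hm => p.isPrime.ne_top (Ideal.eq_top_of_isUnit_mem _ hm (IsLocalization.Away.algebraMap_isUnit a))
    obtain ⟨r, -, hrp⟩ := hsub hpa
    have hrT : r ∈ Set.range (PrimeSpectrum.comap (algebraMap C' T)) := by
      rw [PrimeSpectrum.localization_away_comap_range T (algebraMap A C' a)]
      exact fun hm => hpa (show a ∈ (PrimeSpectrum.comap (algebraMap A U) p).asIdeal from hrp ▸ hm)
    obtain ⟨r', rfl⟩ := hrT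
    refine ⟨r', PrimeSpectrum.localization_comap_injective U (Submonoid.powers a) ?_⟩
    rw [← hrp, ← PrimeSpectrum.comap_comp_apply, ← PrimeSpectrum.comap_comp_apply, ← IsScalarTower.algebraMap_eq,
      ← IsScalarTower.algebraMap_eq]
  have hcomp : algebraMap C' T ∘ (algebraMap A C' ∘ h) = algebraMap U T ∘ (algebraMap A U ∘ h) := by
    funext i; simp only [Function.comp_apply, ← IsScalarTower.algebraMap_apply]
  refine ⟨?_, hP.desc (S := T) (hcomp ▸ hP.flat hPC)⟩
  refine Ideal.map_injective_of_faithfullyFlat (A := U) (B := T) ?_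
  have h1 := congrArg (Ideal.map (algebraMap C' T)) hIC
  rw [Ideal.map_span, ← Set.range_comp, hcomp, Ideal.map_map, ← IsScalarTower.algebraMap_eq] at h1
  rw [Ideal.map_map, ← IsScalarTower.algebraMap_eq, Ideal.map_span, ← Set.range_comp]
  exact h1

end Groth.Agent.SmoothDesc
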