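import Mathlib

/-!
# Coordinates on a smooth algebra around a quotient of the base
-/

set_option autoImplicit false
set_option linter.style.haveILetI false
universe u

open TensorProduct

namespace Groth.Agent.SmoothDesc

/-- Coordinates: derivations dual to the images of the variables. -/
theorem exists_derivations {A R : Type u} [CommRing A] [CommRing R] [Algebra A R] {n : ℕ}
    [Algebra (MvPolynomial (Fin n) A) R] [IsScalarTower A (MvPolynomial (Fin n) A) R]
    [Algebra.FormallyEtale (MvPolynomial (Fin n) A) R] (l : Fin n) :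
    ∃ D : Derivation A R R, ∀ i, D (algebraMap (MvPolynomial (Fin n) A) R (MvPolynomial.X i)) =
      (Pi.single l (1 : R) : Fin n → R) i := by
  classical
  let T := MvPolynomial (Fin n) A
  let b := Algebra.TensorProduct.basis R (KaehlerDifferential.mvPolynomialBasis A (Fin n))
  let e := KaehlerDifferential.tensorKaehlerEquivOfFormallyEtale A T R
  let L : Ω[R⁄A] →ₗ[R] R := (b.constr R (fun i => (Pi.single l (1 : R) : Fin n → R) i)).comp e.symm.toLinearMap
  refine ⟨L.compDer (KaehlerDifferential.D A R), fun i => ?_⟩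
  have h1 : e (1 ⊗ₜ KaehlerDifferential.D A T (MvPolynomial.X i)) =
      KaehlerDifferential.D A R (algebraMap T R (MvPolynomial.X i)) := by
    simp [e, T]
  have h2 : b i = 1 ⊗ₜ KaehlerDifferential.D A T (MvPolynomial.X i) := by
    simp [b, T]
  show L (KaehlerDifferential.D A R _) = _
  rw [← h1, ← h2]
  show b.constr R _ (e.symm (e (b i))) = _
  rw [e.symm_apply_apply, Module.Basis.constr_basis]

variable {A R : Type u} [CommRing A] [CommRing R] [Algebra A R] {n : ℕ}
  [Algebra (MvPolynomial (Fin n) A) R] [IsScalarTower A (MvPolynomial (Fin n) A) R]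
  [Algebra.Etale (MvPolynomial (Fin n) A) R] {I : Ideal A} {K : Ideal R} (s : A)
  (hs : IsUnit (algebraMap A R s)) (hIK : I.map (algebraMap A R) ≤ K)
  (hmod : ∀ c : R, ∃ (a : A) (k : ℕ), c * algebraMap A R s ^ k - algebraMap A R a ∈ K)
  (hI : ∀ a : A, algebraMap A R a ∈ K → ∃ k : ℕ, s ^ k * a ∈ I)

include hs hIK hmod hI in
/-- The relative coordinates: they cut out the base from the smooth algebra, to first order. -/
theorem exists_coord : ∃ (y : Fin n → R) (c : Fin n → Localization.Away s),
    (∀ i, y i = algebraMap (MvPolynomial (Fin n) A) R (MvPolynomial.X i) -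
      IsLocalization.Away.lift s hs (c i)) ∧ (∀ i, y i ∈ K) ∧
    K ≤ I.map (algebraMap A R) ⊔ Ideal.span (Set.range y) ⊔ K * K ∧
    (∀ Q : Ideal R, Q.IsPrime → K ≤ Q → ∀ b : Fin n → R, ∑ i, b i * y i ∈ Q * K → ∀ i, b i ∈ Q) := by
  classical
  let T := MvPolynomial (Fin n) A
  let ρ : Localization.Away s →+* R := IsLocalization.Away.lift s hs
  have hρ : ρ.comp (algebraMap A (Localization.Away s)) = algebraMap A R := IsLocalization.Away.lift_comp s hs
  have hρa : ∀ a, ρ (algebraMap A _ a) = algebraMap A R a := fun a => RingHom.congr_fun hρ a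
  have hsurj : Function.Surjective ((Ideal.Quotient.mk K).comp ρ) := fun z => by
    obtain ⟨c, rfl⟩ := Ideal.Quotient.mk_surjective z
    obtain ⟨a, k, hc⟩ := hmod c
    refine ⟨IsLocalization.mk' _ a (⟨s ^ k, k, rfl⟩ : Submonoid.powers s), ?_⟩
    rw [RingHom.comp_apply, Ideal.Quotient.eq, ← Ideal.mul_unit_mem_iff_mem K (hs.pow k), sub_mul]
    have h1 : ρ (IsLocalization.mk' _ a (⟨s ^ k, k, rfl⟩ : Submonoid.powers s)) * algebraMap A R s ^ k =
        algebraMap A R a := by
      rw [← map_pow, ← hρa, ← hρa, ← map_mul, IsLocalization.mk'_spec]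
    rw [h1, ← neg_mem_iff, neg_sub]
    exact hc
  choose c hc using fun i : Fin n => hsurj (Ideal.Quotient.mk K (algebraMap T R (MvPolynomial.X i)))
  let y : Fin n → R := fun i => algebraMap T R (MvPolynomial.X i) - ρ (c i)
  have hy : ∀ i, y i ∈ K := fun i => Ideal.Quotient.eq.mp (hc i).symm
  refine ⟨y, c, fun i => rfl, hy, ?_, ?_⟩
  · let L := I.map (algebraMap A R) ⊔ Ideal.span (Set.range y) ⊔ K * K
    have hLK : L ≤ K := sup_le (sup_le hIK (Ideal.span_le.mpr (Set.range_subset_iff.mpr hy))) Ideal.mul_le_left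
    let N : Ideal (R ⧸ L) := K.map (Ideal.Quotient.mk L)
    have hN : N ^ 2 = ⊥ := by
      rw [pow_two, ← Ideal.map_mul, eq_bot_iff]
      exact (Ideal.map_mono (le_sup_right : K * K ≤ L)).trans (Ideal.map_quotient_self L).le
    let τ : Localization.Away s →+* R ⧸ L := (Ideal.Quotient.mk L).comp ρ
    have hτ : RingHom.ker ((Ideal.Quotient.mk K).comp ρ) ≤ RingHom.ker τ := by
      intro z hz
      obtain ⟨a, ⟨_, k, rfl⟩, rfl⟩ := IsLocalization.exists_mk'_eq (Submonoid.powers s) z
      have hu : IsUnit (ρ (algebraMap A _ (s ^ k))) := by rw [hρa, map_pow]; exact hs.pow k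
      have e : ρ (IsLocalization.mk' _ a (⟨s ^ k, k, rfl⟩ : Submonoid.powers s)) * ρ (algebraMap A _ (s ^ k)) =
          algebraMap A R a := by rw [← map_mul, IsLocalization.mk'_spec, hρa]
      rw [RingHom.mem_ker, RingHom.comp_apply, Ideal.Quotient.eq_zero_iff_mem] at hz ⊢
      rw [← Ideal.mul_unit_mem_iff_mem _ hu, e] at hz ⊢
      obtain ⟨m, hm⟩ := hI a hz
      have := Ideal.mem_map_of_mem (algebraMap A R) hm
      rw [map_mul, map_pow, Ideal.unit_mul_mem_iff_mem _ (hs.pow m)] at this
      exact Ideal.mem_sup_left (Ideal.mem_sup_left this)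
    let θ₀ : R ⧸ K →+* R ⧸ L := RingHom.liftOfSurjective ((Ideal.Quotient.mk K).comp ρ) hsurj ⟨τ, hτ⟩
    have hθ : ∀ z, θ₀ (Ideal.Quotient.mk K (ρ z)) = Ideal.Quotient.mk L (ρ z) := fun z =>
      RingHom.liftOfRightInverse_comp_apply _ _ _ ⟨τ, hτ⟩ z
    let θ : R →+* R ⧸ L := θ₀.comp (Ideal.Quotient.mk K)
    have hθT : θ.comp (algebraMap T R) = (Ideal.Quotient.mk L).comp (algebraMap T R) := by
      refine MvPolynomial.ringHom_ext (fun a => ?_) fun i => ?_
      · have e : algebraMap T R (MvPolynomial.C a) = ρ (algebraMap A _ a) := by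
          rw [hρa, IsScalarTower.algebraMap_apply A T R]; rfl
        simp only [RingHom.comp_apply, θ, e]
        exact hθ _
      · simp only [RingHom.comp_apply, θ]
        rw [← hc i]
        refine (hθ (c i)).trans (Ideal.Quotient.eq.mpr ?_)
        rw [← neg_mem_iff, neg_sub]
        exact Ideal.mem_sup_left (Ideal.mem_sup_right (Ideal.subset_span ⟨i, rfl⟩))
    let θa : R →ₐ[T] R ⧸ L := ⟨θ, fun t => RingHom.congr_fun hθT t⟩
    have hid : Ideal.Quotient.mkₐ T L = θa := by
      refine Algebra.FormallyUnramified.lift_unique (R := T) N ⟨2, hN⟩ _ _ (AlgHom.ext fun x => ?_)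
      show Ideal.Quotient.mk N (Ideal.Quotient.mk L x) = Ideal.Quotient.mk N (θ₀ (Ideal.Quotient.mk K x))
      obtain ⟨z, hz⟩ := hsurj (Ideal.Quotient.mk K x)
      rw [← hz, RingHom.comp_apply, hθ, Ideal.Quotient.eq, ← map_sub]
      exact Ideal.mem_map_of_mem _ (Ideal.Quotient.eq.mp hz.symm)
    intro x hx
    rw [← Ideal.Quotient.eq_zero_iff_mem]
    show Ideal.Quotient.mkₐ T L x = 0
    rw [hid]
    show θ₀ (Ideal.Quotient.mk K x) = 0
    rw [Ideal.Quotient.eq_zero_iff_mem.mpr hx, map_zero]
  · intro Q hQ hKQ b hb l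
    obtain ⟨D, hD⟩ := exists_derivations (A := A) (R := R) (n := n) l
    have hDρ : ∀ z, D (ρ z) = 0 := fun z => by
      obtain ⟨a, ⟨_, k, rfl⟩, rfl⟩ := IsLocalization.exists_mk'_eq (Submonoid.powers s) z
      have e : algebraMap A R (s ^ k) * ρ (IsLocalization.mk' _ a (⟨s ^ k, k, rfl⟩ : Submonoid.powers s)) =
          algebraMap A R a := by
        rw [← hρa, ← map_mul]
        exact (congrArg ρ (IsLocalization.mk'_spec' (Localization.Away s) a
          (⟨s ^ k, k, rfl⟩ : Submonoid.powers s))).trans (hρa a)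
      have h1 := congrArg D e
      rw [D.map_algebraMap, Derivation.leibniz, D.map_algebraMap, smul_zero, add_zero, smul_eq_mul] at h1
      rw [map_pow] at h1
      exact (hs.pow k).mul_right_eq_zero.mp h1
    have hDy : ∀ i, D (y i) = (Pi.single l (1 : R) : Fin n → R) i := fun i => by
      simp [y, hD, hDρ, T]
    have hDQ : D (∑ i, b i * y i) ∈ Q := by
      revert hb
      generalize ∑ i, b i * y i = x
      intro hb
      induction hb using Submodule.mul_induction_on' with
      | mem_mul_mem q hq k hk =>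
        rw [Derivation.leibniz, smul_eq_mul, smul_eq_mul]
        exact add_mem (Ideal.mul_mem_right _ _ hq) (Ideal.mul_mem_right _ _ (hKQ hk))
      | add u _ v _ hu hv => rw [map_add]; exact add_mem hu hv
    have hsum : D (∑ i, b i * y i) = b l + ∑ i, y i * D (b i) := by
      rw [map_sum]
      simp [Derivation.leibniz, hDy, Finset.sum_add_distrib, Pi.single_apply]
    rw [hsum] at hDQ
    refine (Ideal.add_mem_iff_left _ ?_).mp hDQ
    exact Ideal.sum_mem _ fun i _ => Ideal.mul_mem_right _ _ (hKQ (hy i))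

omit [IsScalarTower A (MvPolynomial (Fin n) A) R] in
include hs in
/-- The quotient by the coordinates is flat and of finite presentation over the base. -/
theorem exists_flat_quotient [IsScalarTower A (MvPolynomial (Fin n) A) R] (c : Fin n → Localization.Away s)
    (y : Fin n → R) (hy : ∀ i, y i = algebraMap (MvPolynomial (Fin n) A) R (MvPolynomial.X i) -
      IsLocalization.Away.lift s hs (c i)) :
    ∃ (C : Type u) (_ : CommRing C) (_ : Algebra A C) (π : R →ₐ[A] C),
      Module.Flat A C ∧ Algebra.FinitePresentation A C ∧ Function.Surjective π ∧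
        RingHom.ker π.toRingHom = Ideal.span (Set.range y) := by
  let T := MvPolynomial (Fin n) A
  let A' := Localization.Away s
  let ev : T →ₐ[A] A' := MvPolynomial.aeval c
  letI : Algebra T A' := ev.toRingHom.toAlgebra
  haveI : IsScalarTower A T A' := IsScalarTower.of_algebraMap_eq fun a => (ev.commutes a).symm
  let C := A' ⊗[T] R
  haveI : Module.Flat A A' := IsLocalization.flat A' (Submonoid.powers s)
  haveI : Algebra.Etale A' C := inferInstance
  haveI : Module.Flat A C := Module.Flat.trans A A' C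
  haveI : Algebra.FinitePresentation A A' := IsLocalization.Away.finitePresentation s
  haveI : Algebra.FinitePresentation A C := Algebra.FinitePresentation.trans A A' C
  let π : R →ₐ[A] C := (Algebra.TensorProduct.includeRight (R := T) (A := A') (B := R)).restrictScalars A
  let ρ : A' →+* R := IsLocalization.Away.lift s hs
  have hρa : ∀ a, ρ (algebraMap A A' a) = algebraMap A R a := fun a => IsLocalization.Away.lift_eq s hs a
  have hρπ : ∀ z, π (ρ z) = algebraMap A' C z := fun z => by
    refine RingHom.congr_fun (IsLocalization.ringHom_ext (Submonoid.powers s) (j := π.toRingHom.comp ρ)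
      (k := algebraMap A' C) (RingHom.ext fun a => ?_)) z
    show π (ρ (algebraMap A A' a)) = algebraMap A' C (algebraMap A A' a)
    rw [hρa, π.commutes, ← IsScalarTower.algebraMap_apply]
  have hsurj : Function.Surjective π := fun w => by
    induction w using TensorProduct.induction_on with
    | zero => exact ⟨0, map_zero _⟩
    | tmul a r =>
      refine ⟨ρ a * r, ?_⟩
      rw [map_mul, hρπ]
      show (a ⊗ₜ[T] (1 : R)) * ((1 : A') ⊗ₜ[T] r) = _
      rw [Algebra.TensorProduct.tmul_mul_tmul, mul_one, one_mul]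
    | add u v hu hv =>
      obtain ⟨p, rfl⟩ := hu
      obtain ⟨q, rfl⟩ := hv
      exact ⟨p + q, map_add _ _ _⟩
  refine ⟨C, inferInstance, inferInstance, π, inferInstance, inferInstance, hsurj, le_antisymm ?_ ?_⟩
  · let Y := Ideal.span (Set.range y)
    let l₁' : A' →+* R ⧸ Y := (Ideal.Quotient.mk Y).comp ρ
    have hl : l₁'.comp (algebraMap T A') = (Ideal.Quotient.mk Y).comp (algebraMap T R) := by
      refine MvPolynomial.ringHom_ext (fun a => ?_) fun i => ?_
      · show Ideal.Quotient.mk Y (ρ (ev (MvPolynomial.C a))) = Ideal.Quotient.mk Y (algebraMap T R (MvPolynomial.C a))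
        rw [show ev (MvPolynomial.C a) = algebraMap A A' a from ev.commutes a, hρa, IsScalarTower.algebraMap_apply A T R]
        rfl
      · show Ideal.Quotient.mk Y (ρ (ev (MvPolynomial.X i))) = Ideal.Quotient.mk Y (algebraMap T R (MvPolynomial.X i))
        rw [show ev (MvPolynomial.X i) = c i from MvPolynomial.aeval_X c i, Ideal.Quotient.eq, ← neg_mem_iff, neg_sub]
        exact Ideal.subset_span ⟨i, hy i⟩
    let l₁ : A' →ₐ[T] R ⧸ Y := ⟨l₁', fun t => RingHom.congr_fun hl t⟩
    let l : C →ₐ[T] R ⧸ Y := Algebra.TensorProduct.lift l₁ (Ideal.Quotient.mkₐ T Y) fun _ _ => Commute.all _ _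
    intro r hr
    refine Ideal.Quotient.eq_zero_iff_mem.mp ?_
    have h1 : l (π r) = Ideal.Quotient.mk Y r := by
      show l ((1 : A') ⊗ₜ[T] r) = _
      rw [Algebra.TensorProduct.lift_tmul, map_one, one_mul]
      rfl
    rw [← h1, show π r = 0 from hr, map_zero]
  · rw [Ideal.span_le]
    rintro _ ⟨i, rfl⟩
    show π (y i) = 0
    rw [hy, map_sub, hρπ, sub_eq_zero]
    show (1 : A') ⊗ₜ[T] (algebraMap T R (MvPolynomial.X i)) = (c i) ⊗ₜ[T] (1 : R)
    rw [Algebra.algebraMap_eq_smul_one, TensorProduct.tmul_smul, TensorProduct.smul_tmul', Algebra.smul_def, mul_one]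
    congr 1
    exact MvPolynomial.aeval_X c i

end Groth.Agent.SmoothDesc
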