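import Groth.Agent.SmoothDesc.Algebra
import Mathlib

/-!
# Sequences generating the kernel of a point of a smooth algebra
-/

set_option autoImplicit false
set_option linter.style.haveILetI false
universe u

namespace Groth.Agent.SmoothDesc

open Groth.Agent.KoszulLib

variable {P : ∀ {R : Type u} [CommRing R] {n : ℕ}, (Fin n → R) → Prop}

theorem pAt_map (hP : GoodSeq @P) {A B : Type u} [CommRing A] [CommRing B] [Algebra A B] [Module.Flat A B]
    {K : Ideal A} {Q : Ideal B} (hK : PAt @P K (Q.comap (algebraMap A B))) :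
    PAt @P (K.map (algebraMap A B)) Q := by
  obtain ⟨g, hg, n, h, hhK, hspan, hh⟩ := hK
  let T := Localization.Away (algebraMap A B g)
  haveI : Module.Flat B T := IsLocalization.flat T (Submonoid.powers (algebraMap A B g))
  haveI : Module.Flat A T := Module.Flat.trans A B T
  obtain ⟨h1, h2⟩ := pExtend hP (Localization.Away g) g T (by
    rw [IsScalarTower.algebraMap_apply A B T]; exact IsLocalization.Away.algebraMap_isUnit _) h K hspan hh
  have hc : algebraMap A T ∘ h = algebraMap B T ∘ (algebraMap A B ∘ h) :=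
    funext fun i => IsScalarTower.algebraMap_apply A B T (h i)
  refine ⟨algebraMap A B g, hg, n, algebraMap A B ∘ h, fun i => Ideal.mem_map_of_mem _ (hhK i), ?_, hc ▸ h2⟩
  rw [← hc, Ideal.map_map, ← IsScalarTower.algebraMap_eq]
  exact h1

/-- A quotient of the base which is a quotient of a smooth algebra is cut out near a point by a good sequence
when it is so in the smooth algebra. -/
theorem pAt_ker_of_smooth (hP : GoodSeq @P)
    (htail : ∀ {R R' : Type u} [CommRing R] [CommRing R'] (π : R →+* R'), Function.Surjective π →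
      ∀ {n m : ℕ} (y : Fin n → R) (a : Fin m → R), RingHom.ker π = Ideal.span (Set.range y) →
        P (Fin.append y a) → P (⇑π ∘ a))
    {A B P' : Type u} [CommRing A] [CommRing B] [CommRing P'] [Algebra A B] [Algebra A P'] [Algebra.Smooth A P']
    (hAB : Function.Surjective (algebraMap A B)) (φ : P' →ₐ[A] B) (p : PrimeSpectrum P')
    (hp : RingHom.ker φ.toRingHom ≤ p.asIdeal) (hK : PAt @P (RingHom.ker φ.toRingHom) p.asIdeal) :
    PAt @P (RingHom.ker (algebraMap A B)) (p.asIdeal.comap (algebraMap A P')) := by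
  haveI : Algebra.IsSmoothAt A p.asIdeal := Algebra.FormallySmooth.comp A P' _
  obtain ⟨f, hfp, n, _, _, hse⟩ := Algebra.IsSmoothAt.exists_isStandardEtale_mvPolynomial (R := A) (p := p.asIdeal)
  haveI := hse
  obtain ⟨s, hsf⟩ := hAB (φ f)
  let K := RingHom.ker φ.toRingHom
  have hfs : f - algebraMap A P' s ∈ K := by
    show φ _ = 0
    rw [map_sub, φ.commutes, hsf, sub_self]
  have hsp : algebraMap A P' s ∉ p.asIdeal := fun hm => hfp (by simpa using add_mem (hp hfs) hm)
  let R₁ := Localization.Away f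
  let R₂ := Localization.Away (algebraMap P' R₁ (algebraMap A P' s))
  let M := f * algebraMap A P' s
  haveI : IsLocalization.Away M R₂ := IsLocalization.Away.mul' R₁ R₂ f (algebraMap A P' s)
  haveI : Algebra.Etale R₁ R₂ := Algebra.Etale.of_isLocalizationAway (algebraMap P' R₁ (algebraMap A P' s))
  haveI : Algebra.Etale (MvPolynomial (Fin n) A) R₂ := Algebra.Etale.comp (MvPolynomial (Fin n) A) R₁ R₂
  haveI : Module.Flat P' R₂ := IsLocalization.flat R₂ (Submonoid.powers M)
  let K₂ := K.map (algebraMap P' R₂)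
  have hs : IsUnit (algebraMap A R₂ s) := by
    rw [IsScalarTower.algebraMap_apply A P' R₂, IsScalarTower.algebraMap_apply P' R₁ R₂]
    exact IsLocalization.Away.algebraMap_isUnit _
  have hIK : (RingHom.ker (algebraMap A B)).map (algebraMap A R₂) ≤ K₂ := by
    rw [Ideal.map_le_iff_le_comap]
    intro a ha
    rw [Ideal.mem_comap, IsScalarTower.algebraMap_apply A P' R₂]
    exact Ideal.mem_map_of_mem _ (show φ _ = 0 by rw [φ.commutes]; exact ha)
  have hMs : ∀ k : ℕ, M ^ k - algebraMap A P' s ^ (2 * k) ∈ K := fun k => by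
    show φ _ = 0
    simp only [M, map_sub, map_pow, map_mul, φ.commutes, hsf, ← pow_two, ← pow_mul, sub_self]
  have hmod : ∀ c : R₂, ∃ (a : A) (k : ℕ), c * algebraMap A R₂ s ^ k - algebraMap A R₂ a ∈ K₂ := fun c => by
    obtain ⟨⟨x, ⟨_, k, rfl⟩⟩, hc⟩ := IsLocalization.surj (Submonoid.powers M) c
    obtain ⟨a, ha⟩ := hAB (φ x)
    refine ⟨a, 2 * k, ?_⟩
    have hxa : x - algebraMap A P' a ∈ K := by
      show φ _ = 0
      rw [map_sub, φ.commutes, ha, sub_self]
    have h1 : c * algebraMap A R₂ s ^ (2 * k) - algebraMap A R₂ a =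
        algebraMap P' R₂ (x - algebraMap A P' a) - c * algebraMap P' R₂ (M ^ k - algebraMap A P' s ^ (2 * k)) := by
      simp only [map_sub, map_pow, ← IsScalarTower.algebraMap_apply] at hc ⊢
      rw [mul_sub, hc]
      ring
    rw [h1]
    exact sub_mem (Ideal.mem_map_of_mem _ hxa) (Ideal.mul_mem_left _ _ (Ideal.mem_map_of_mem _ (hMs k)))
  have hI : ∀ a : A, algebraMap A R₂ a ∈ K₂ → ∃ k : ℕ, s ^ k * a ∈ RingHom.ker (algebraMap A B) := fun a ha => by
    rw [IsScalarTower.algebraMap_apply A P' R₂,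
      IsLocalization.algebraMap_mem_map_algebraMap_iff (Submonoid.powers M)] at ha
    obtain ⟨_, ⟨k, rfl⟩, hk⟩ := ha
    refine ⟨2 * k, ?_⟩
    have h1 : φ (M ^ k * algebraMap A P' a) = 0 := hk
    rw [map_mul, φ.commutes, map_pow, map_mul, ← hsf, φ.commutes, ← pow_two, ← pow_mul, ← map_pow, ← map_mul] at h1
    exact h1
  obtain ⟨Q, hQ⟩ : p ∈ Set.range (PrimeSpectrum.comap (algebraMap P' R₂)) := by
    rw [PrimeSpectrum.localization_away_comap_range R₂ M]
    exact fun hm => (p.isPrime.mem_or_mem hm).elim hfp hsp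
  subst hQ
  have h := pAt_comap (n := n) hP htail s hs hIK hmod hI Q (Ideal.map_le_iff_le_comap.mpr hp) (pAt_map hP hK)
  rwa [PrimeSpectrum.comap_asIdeal, Ideal.comap_comap, ← IsScalarTower.algebraMap_eq]

end Groth.Agent.SmoothDesc
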